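import Mathlib
import Groth.Agent.LFFrame.Basic

/-!
Frames of size `n` and local freeness of rank `n`.
-/

set_option autoImplicit false
set_option backward.isDefEq.respectTransparency false
set_option backward.isDefEq.respectTransparency.types false

universe u

open CategoryTheory CategoryTheory.Limits AlgebraicGeometry Opposite TopologicalSpace Groth.Agent.LFFrame

noncomputable section

namespace Groth.Agent.FinCov71

variable {X Y : Scheme.{u}}

theorem exists_isFrame_rank {M : X.Modules} {n : ℕ} (hM : FlatMod.IsFinLocFreeOfRank n M) (x : X) :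
    ∃ (U : X.Opens) (e : Fin n → Γ(M, U)), x ∈ U ∧ IsFrame M U e := by
  classical
  obtain ⟨U, hx, ⟨φ⟩⟩ := hM x
  let p : Fin n → (FlatMod.freeMod (U : Scheme.{u}) n ⟶ Coh.structureModule (U : Scheme.{u})) :=
    fun j => Sigma.desc fun i => if i = j then 𝟙 _ else 0
  obtain ⟨e, he⟩ := exists_isFrame_of_split (M := M)
    (fun i => Sigma.ι (fun _ : Fin n => Coh.structureModule (U : Scheme.{u})) i ≫ φ.inv)
    (fun j => φ.hom ≫ p j) (fun i j => by simp [p]) (by
      rw [← cancel_epi φ.inv, ← cancel_mono φ.hom]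
      apply Sigma.hom_ext
      intro j
      simp [p, Preadditive.comp_sum, Preadditive.sum_comp, Finset.sum_ite_eq', ite_comp])
  exact ⟨U, e, hx, he⟩

theorem exists_isFrame_invertible {M : X.Modules} (hM : PicF.IsInvertible M) (x : X) :
    ∃ (U : X.Opens) (e : Fin 1 → Γ(M, U)), x ∈ U ∧ IsFrame M U e := by
  obtain ⟨U, hx, ⟨φ⟩⟩ := hM x
  obtain ⟨e, he⟩ := exists_isFrame_of_split (M := M) (fun _ : Fin 1 => φ.inv) (fun _ => φ.hom)
    (fun i j => by simp [Subsingleton.elim i j]) (by simp)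
  exact ⟨U, e, hx, he⟩

/-- The morphism `O_U ⟶ M|_U` of a section. -/
def secHom {M : X.Modules} {U : X.Opens} (e : Γ(M, U)) :
    Coh.structureModule (U : Scheme.{u}) ⟶ M.restrict U.ι :=
  have hle : ∀ V : (U : Scheme.{u}).Opens, U.ι ''ᵁ V ≤ U := fun V => U.ι_image_le V
  ⟨PresheafOfModules.homMk
    { app := fun V => AddCommGrpCat.ofHom (show Γ(X, U.ι ''ᵁ V.unop) →+ Γ(M, U.ι ''ᵁ V.unop) from
        AddMonoidHom.mk' (fun a => a • M.presheaf.map (homOfLE (hle V.unop)).op e)
          fun a b => add_smul a b _)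
      naturality := fun {V W} i => by
        ext a
        let j : U.ι ''ᵁ W.unop ≤ U.ι ''ᵁ V.unop := U.ι.image_mono i.unop.le
        let a' : Γ(X, U.ι ''ᵁ V.unop) := a
        change X.presheaf.map (homOfLE j).op a' • M.presheaf.map (homOfLE (hle W.unop)).op e =
          M.presheaf.map (homOfLE j).op (a' • M.presheaf.map (homOfLE (hle V.unop)).op e)
        rw [Scheme.Modules.map_smul, res_res] }
    (fun V (r : Γ((U : Scheme.{u}), V.unop)) (a : Γ((U : Scheme.{u}), V.unop)) => by
      let r' : Γ(X, U.ι ''ᵁ V.unop) := r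
      let a' : Γ(X, U.ι ''ᵁ V.unop) := a
      change (r' * a') • M.presheaf.map (homOfLE (hle V.unop)).op e =
        ((U.ι.appIso V.unop).inv r) • (a' • M.presheaf.map (homOfLE (hle V.unop)).op e)
      rw [mul_smul, Scheme.Opens.ι_appIso]
      rfl)⟩

theorem secHom_app {M : X.Modules} {U : X.Opens} (e : Γ(M, U)) (V : (U : Scheme.{u}).Opens)
    (a : Γ(X, U.ι ''ᵁ V)) :
    ((secHom e).app V (show Γ((U : Scheme.{u}), V) from a) : Γ(M, U.ι ''ᵁ V)) =
      a • M.presheaf.map (homOfLE (U.ι_image_le V)).op e := rfl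

/-- On sections, a free module is a power of the structure sheaf. -/
theorem freeMod_bijective (Y : Scheme.{u}) (n : ℕ) (V : Y.Opens) :
    Function.Bijective (fun a : Fin n → Γ(Y, V) => ∑ i,
      (Sigma.ι (fun _ : Fin n => Coh.structureModule Y) i).app V (a i)) := by
  classical
  let ι : Fin n → (Coh.structureModule Y ⟶ FlatMod.freeMod Y n) :=
    fun i => Sigma.ι (fun _ : Fin n => Coh.structureModule Y) i
  let π : Fin n → (FlatMod.freeMod Y n ⟶ Coh.structureModule Y) :=
    fun j => Sigma.desc fun i => if i = j then 𝟙 _ else 0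
  have hsum : ∑ i, π i ≫ ι i = 𝟙 _ := by
    apply Sigma.hom_ext
    intro j
    simp [π, ι, Preadditive.comp_sum, Finset.sum_ite_eq', ite_comp]
  have hπι : ∀ i j (a : Γ(Y, V)), (π j).app V ((ι i).app V a) = if i = j then a else 0 := fun i j a => by
    have h1 : ι i ≫ π j = if i = j then 𝟙 _ else 0 := by simp [ι, π]
    refine (congrArg (fun φ : Coh.structureModule Y ⟶ Coh.structureModule Y => φ.app V a) h1).trans ?_
    split_ifs <;> rfl
  constructor
  · intro a b hab
    funext j
    have key : ∀ a : Fin n → Γ(Y, V), (π j).app V (∑ i, (ι i).app V (a i)) = a j := fun a => by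
      rw [map_sum]
      exact (Finset.sum_congr rfl fun i _ => hπι i j _).trans (by simp)
    exact (key a).symm.trans ((congrArg ((π j).app V) hab).trans (key b))
  · intro t
    refine ⟨fun i => (π i).app V t, ?_⟩
    let ev : (FlatMod.freeMod Y n ⟶ FlatMod.freeMod Y n) →+ Γ(FlatMod.freeMod Y n, V) :=
      AddMonoidHom.mk' (fun φ => φ.app V t) (fun φ ψ => rfl)
    exact ((map_sum ev (fun i => π i ≫ ι i) Finset.univ).symm.trans (congrArg ev hsum))

theorem IsFrame.nonempty_iso_freeMod {M : X.Modules} {U : X.Opens} {n : ℕ} {e : Fin n → Γ(M, U)}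
    (he : IsFrame M U e) :
    Nonempty (M.restrict U.ι ≅ FlatMod.freeMod (U : Scheme.{u}) n) := by
  let Φ : FlatMod.freeMod (U : Scheme.{u}) n ⟶ M.restrict U.ι := Sigma.desc fun i => secHom (e i)
  have : IsIso Φ := by
    refine isIso_of_locally_bijective Φ fun x => ⟨⊤, trivial, fun V _ => ?_⟩
    have hΦ : ∀ a : Fin n → Γ((U : Scheme.{u}), V), (Φ.app V (∑ i,
        (Sigma.ι (fun _ : Fin n => Coh.structureModule (U : Scheme.{u})) i).app V (a i)) :
          Γ(M, U.ι ''ᵁ V)) = comb M e (U.ι_image_le V) a := fun a => by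
      rw [map_sum]
      refine Finset.sum_congr rfl fun i _ => ?_
      have h1 : Sigma.ι (fun _ : Fin n => Coh.structureModule (U : Scheme.{u})) i ≫ Φ = secHom (e i) :=
        Sigma.ι_desc _ _
      exact congrArg (fun φ : Coh.structureModule (U : Scheme.{u}) ⟶ M.restrict U.ι => φ.app V (a i)) h1
    refine (Function.Bijective.of_comp_iff _ (freeMod_bijective (U : Scheme.{u}) n V)).1 ?_
    rw [show (Φ.app V ∘ fun a : Fin n → Γ((U : Scheme.{u}), V) => ∑ i,
        (Sigma.ι (fun _ : Fin n => Coh.structureModule (U : Scheme.{u})) i).app V (a i)) =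
        comb M e (U.ι_image_le V) from funext hΦ]
    exact he _ _
  exact ⟨(asIso Φ).symm⟩

theorem isFinLocFreeOfRank_of_frames {M : X.Modules} {n : ℕ}
    (h : ∀ x, ∃ (U : X.Opens) (e : Fin n → Γ(M, U)), x ∈ U ∧ IsFrame M U e) :
    FlatMod.IsFinLocFreeOfRank n M := fun x => by
  obtain ⟨U, e, hx, he⟩ := h x
  exact ⟨U, hx, IsFrame.nonempty_iso_freeMod he⟩

theorem isFinLocFree_of_rank {M : X.Modules} {n : ℕ} (h : FlatMod.IsFinLocFreeOfRank n M) :
    FlatMod.IsFinLocFree M := fun x => by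
  obtain ⟨U, hx, hφ⟩ := h x
  exact ⟨U, n, hx, hφ⟩

end Groth.Agent.FinCov71
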