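import Mathlib
import Groth.Prelude.Def_FinCov
import Groth.Agent.LFFrame.Basic

/-!
Sections of finite locally free algebras over opens with frames; the trace.
-/

set_option autoImplicit false
set_option backward.isDefEq.respectTransparency false
set_option backward.isDefEq.respectTransparency.types false

universe u

open CategoryTheory CategoryTheory.Limits AlgebraicGeometry Opposite TopologicalSpace Groth.Agent.LFFrame

noncomputable section

namespace Groth.Agent.FinCov71

variable {X : Scheme.{u}}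

/-- Sections of a module glue and are separated. -/
theorem eq_of_locally (M : X.Modules) {U : X.Opens} (s t : Γ(M, U))
    (h : ∀ x ∈ U, ∃ (W : X.Opens) (hW : W ≤ U), x ∈ W ∧
      M.presheaf.map (homOfLE hW).op s = M.presheaf.map (homOfLE hW).op t) : s = t := by
  choose W hW hxW hs using h
  exact TopCat.Sheaf.eq_of_locally_eq' ⟨M.presheaf, M.isSheaf⟩ (fun x : U => W x.1 x.2) U
    (fun x => homOfLE (hW x.1 x.2)) (fun x hx => Opens.mem_iSup.2 ⟨⟨x, hx⟩, hxW x hx⟩) _ _
    fun x => hs x.1 x.2

variable (A : RelSpec.QCAlg X)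

/-- The ring of sections. -/
abbrev Sec (U : X.Opens) : Type u := ↑(A.presheaf.obj (op U))

/-- The algebra structure through the structure map. -/
scoped instance secAlg (U : X.Opens) : Algebra Γ(X, U) (Sec A U) := (A.str.app (op U)).hom.toAlgebra

/-- Restriction of sections. -/
def res {U V : X.Opens} (h : V ≤ U) : Sec A U →+* Sec A V := (A.presheaf.map (homOfLE h).op).hom

/-- Restriction of functions. -/
abbrev resO {U V : X.Opens} (h : V ≤ U) : Γ(X, U) →+* Γ(X, V) := (X.presheaf.map (homOfLE h).op).hom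

theorem res_algebraMap {U V : X.Opens} (h : V ≤ U) (r : Γ(X, U)) :
    res A h (algebraMap Γ(X, U) (Sec A U) r) = algebraMap Γ(X, V) (Sec A V) (resO h r) :=
  (CategoryTheory.congr_fun (A.str.naturality (homOfLE h).op) r).symm

theorem res_smul {U V : X.Opens} (h : V ≤ U) (r : Γ(X, U)) (a : Sec A U) :
    res A h (r • a) = resO h r • res A h a := by
  rw [Algebra.smul_def, map_mul, res_algebraMap, ← Algebra.smul_def]

theorem res_res {U V W : X.Opens} (h : V ≤ U) (h' : W ≤ V) (a : Sec A U) :
    res A h' (res A h a) = res A (h'.trans h) a := by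
  simp only [res, ← RingHom.comp_apply, ← CommRingCat.hom_comp, ← Functor.map_comp]
  rfl

theorem res_resO {U V W : X.Opens} (h : V ≤ U) (h' : W ≤ V) (r : Γ(X, U)) :
    resO h' (resO h r) = resO (h'.trans h) r := by
  simp only [resO, ← RingHom.comp_apply, ← CommRingCat.hom_comp, ← Functor.map_comp]
  rfl

/-- A module section, as a section of the algebra. -/
abbrev ofMod {U : X.Opens} (a : Γ(A.toModule, U)) : Sec A U := a

/-- An algebra section, as a module section. -/
abbrev toMod {U : X.Opens} (a : Sec A U) : Γ(A.toModule, U) := a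

variable {A}

/-- The basis given by a frame. -/
def frameBasis {U : X.Opens} {n : ℕ} {e : Fin n → Γ(A.toModule, U)} (he : IsFrame A.toModule U e)
    {V : X.Opens} (h : V ≤ U) : Module.Basis (Fin n) Γ(X, V) (Sec A V) :=
  Module.Basis.ofEquivFun (LinearEquiv.ofBijective
    (Fintype.linearCombination Γ(X, V) (fun i => res A h (ofMod A (e i)))) (he V h)).symm

theorem frameBasis_apply {U : X.Opens} {n : ℕ} {e : Fin n → Γ(A.toModule, U)}
    (he : IsFrame A.toModule U e) {V : X.Opens} (h : V ≤ U) (i : Fin n) :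
    frameBasis he h i = res A h (ofMod A (e i)) := by
  simp [frameBasis]

theorem frameBasis_res {U : X.Opens} {n : ℕ} {e : Fin n → Γ(A.toModule, U)}
    (he : IsFrame A.toModule U e) {V W : X.Opens} (h : V ≤ U) (h' : W ≤ V) (a : Sec A V) (i : Fin n) :
    (frameBasis he (h'.trans h)).repr (res A h' a) i = resO h' ((frameBasis he h).repr a i) := by
  conv_lhs => rw [← (frameBasis he h).sum_repr a]
  rw [map_sum]
  have e1 : ∀ j, res A h' ((frameBasis he h).repr a j • frameBasis he h j) =
      resO h' ((frameBasis he h).repr a j) • frameBasis he (h'.trans h) j := fun j => by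
    rw [res_smul, frameBasis_apply, frameBasis_apply, res_res]
  simp only [e1, Module.Basis.repr_sum_self]

variable (A)

/-- The trace on sections. -/
abbrev tr (U : X.Opens) : Sec A U →ₗ[Γ(X, U)] Γ(X, U) := Algebra.trace Γ(X, U) (Sec A U)

variable {A}

theorem res_tr {U : X.Opens} {n : ℕ} {e : Fin n → Γ(A.toModule, U)} (he : IsFrame A.toModule U e)
    {V W : X.Opens} (h : V ≤ U) (h' : W ≤ V) (a : Sec A V) :
    resO h' (tr A V a) = tr A W (res A h' a) := by
  classical
  rw [tr, tr, Algebra.trace_eq_matrix_trace (frameBasis he h),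
    Algebra.trace_eq_matrix_trace (frameBasis he (h'.trans h)), Matrix.trace, Matrix.trace, map_sum]
  refine Finset.sum_congr rfl fun i _ => ?_
  rw [Matrix.diag_apply, Matrix.diag_apply, Algebra.leftMulMatrix_eq_repr_mul,
    Algebra.leftMulMatrix_eq_repr_mul, frameBasis_apply he (h'.trans h) i,
    ← res_res A h h' (ofMod A (e i)), ← map_mul, frameBasis_res, frameBasis_apply]

/-- An open below one carrying a frame. -/
def HasFrame (M : X.Modules) (V : X.Opens) : Prop :=
  ∃ (U : X.Opens) (n : ℕ) (e : Fin n → Γ(M, U)), V ≤ U ∧ IsFrame M U e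

theorem HasFrame.mono {M : X.Modules} {V W : X.Opens} (h : HasFrame M V) (hW : W ≤ V) : HasFrame M W := by
  obtain ⟨U, n, e, hV, he⟩ := h
  exact ⟨U, n, e, hW.trans hV, he⟩

theorem HasFrame.res_tr {V W : X.Opens} (h : HasFrame A.toModule V) (h' : W ≤ V) (a : Sec A V) :
    resO h' (tr A V a) = tr A W (res A h' a) := by
  obtain ⟨U, n, e, hV, he⟩ := h
  exact FinCov71.res_tr he hV h' a

theorem HasFrame.free {V : X.Opens} (h : HasFrame A.toModule V) :
    Module.Free Γ(X, V) (Sec A V) ∧ Module.Finite Γ(X, V) (Sec A V) := by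
  obtain ⟨U, n, e, hV, he⟩ := h
  exact ⟨Module.Free.of_basis (frameBasis he hV), Module.Finite.of_basis (frameBasis he hV)⟩

theorem exists_hasFrame (hA : FlatMod.IsFinLocFree A.toModule) (x : X) :
    ∃ V : X.Opens, x ∈ V ∧ HasFrame A.toModule V := by
  obtain ⟨U, n, e, hx, he⟩ := exists_isFrame_of_isFinLocFree hA x
  exact ⟨U, hx, U, n, e, le_rfl, he⟩

theorem exists_affine_hasFrame (hA : FlatMod.IsFinLocFree A.toModule) {W : X.Opens} {x : X} (hx : x ∈ W) :
    ∃ V : X.Opens, x ∈ V ∧ V ≤ W ∧ IsAffineOpen V ∧ HasFrame A.toModule V := by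
  obtain ⟨U, hxU, hU⟩ := exists_hasFrame hA x
  obtain ⟨_, ⟨V, hV, rfl⟩, hxV, hVU⟩ :=
    X.isBasis_affineOpens.exists_subset_of_mem_open (show x ∈ U ⊓ W from ⟨hxU, hx⟩) (U ⊓ W).2
  exact ⟨V, hxV, hVU.trans inf_le_right, hV, hU.mono (hVU.trans inf_le_left)⟩

/-- Morphisms out of a finite locally free algebra agree if they do on affine opens with frames. -/
theorem hom_ext_frame (hA : FlatMod.IsFinLocFree A.toModule) {N : X.Modules} {φ ψ : A.toModule ⟶ N}
    (h : ∀ V : X.Opens, IsAffineOpen V → HasFrame A.toModule V →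
      ∀ a : Γ(A.toModule, V), φ.app V a = ψ.app V a) : φ = ψ := by
  refine Scheme.Modules.hom_ext _ _ fun U => ?_
  ext s
  refine eq_of_locally N _ _ fun x hx => ?_
  obtain ⟨V, hxV, hVU, hV, hf⟩ := exists_affine_hasFrame hA hx
  refine ⟨V, hVU, hxV, ?_⟩
  exact (NatTrans.naturality_apply φ.mapPresheaf (homOfLE hVU).op s).symm.trans
    ((h V hV hf _).trans (NatTrans.naturality_apply ψ.mapPresheaf (homOfLE hVU).op s))

/-- The property characterising the trace of a section. -/
def IsTr {W : X.Opens} (a : Sec A W) (t : Γ(X, W)) : Prop :=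
  ∀ (V : X.Opens) (hV : V ≤ W), HasFrame A.toModule V → resO hV t = tr A V (res A hV a)

theorem existsUnique_isTr (hA : FlatMod.IsFinLocFree A.toModule) {W : X.Opens} (a : Sec A W) :
    ∃! t, IsTr a t := by
  choose U hxU hU using fun x : W => exists_hasFrame hA x.1
  let Vx : W → X.Opens := fun x => W ⊓ U x
  have hVW : ∀ x, Vx x ≤ W := fun x => inf_le_left
  have hVf : ∀ x, HasFrame A.toModule (Vx x) := fun x => (hU x).mono inf_le_right
  have hcov : W ≤ iSup Vx := fun x hx => Opens.mem_iSup.2 ⟨⟨x, hx⟩, hx, hxU _⟩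
  have hcompat : TopCat.Presheaf.IsCompatible X.sheaf.1 Vx (fun x => tr A (Vx x) (res A (hVW x) a)) :=
    fun x y => by
      change resO (inf_le_left : Vx x ⊓ Vx y ≤ Vx x) _ = resO (inf_le_right : Vx x ⊓ Vx y ≤ Vx y) _
      rw [(hVf x).res_tr, (hVf y).res_tr, res_res, res_res]
  obtain ⟨t, ht, huniq⟩ := TopCat.Sheaf.existsUnique_gluing' X.sheaf Vx W
    (fun x => homOfLE (hVW x)) hcov _ hcompat
  refine ⟨t, fun V hV hf => ?_, fun t' ht' => huniq t' fun x => ht' _ _ (hVf x)⟩
  refine TopCat.Sheaf.eq_of_locally_eq' X.sheaf (fun x : W => V ⊓ Vx x) V (fun x => homOfLE inf_le_left)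
    (fun z hz => Opens.mem_iSup.2 ⟨⟨z, hV hz⟩, hz, hV hz, hxU _⟩) _ _ fun x => ?_
  change resO (inf_le_left : V ⊓ Vx x ≤ V) _ = resO (inf_le_left : V ⊓ Vx x ≤ V) _
  rw [hf.res_tr, res_res, res_resO, ← res_resO (hVW x) (inf_le_right : V ⊓ Vx x ≤ Vx x)]
  rw [show resO (hVW x) t = tr A (Vx x) (res A (hVW x) a) from ht x, (hVf x).res_tr, res_res]

/-- The trace of a section. -/
def trAt (hA : FlatMod.IsFinLocFree A.toModule) {W : X.Opens} (a : Sec A W) : Γ(X, W) :=
  (existsUnique_isTr hA a).choose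

theorem isTr_trAt (hA : FlatMod.IsFinLocFree A.toModule) {W : X.Opens} (a : Sec A W) :
    IsTr a (trAt hA a) :=
  (existsUnique_isTr hA a).choose_spec.1

theorem trAt_unique (hA : FlatMod.IsFinLocFree A.toModule) {W : X.Opens} {a : Sec A W} {t : Γ(X, W)}
    (h : IsTr a t) : t = trAt hA a :=
  (existsUnique_isTr hA a).choose_spec.2 t h

/-- The trace as a morphism of modules. -/
def trHom (hA : FlatMod.IsFinLocFree A.toModule) : A.toModule ⟶ Coh.structureModule X :=
  ⟨PresheafOfModules.homMk
    { app := fun U => AddCommGrpCat.ofHom (AddMonoidHom.mk'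
        (show Γ(A.toModule, U.unop) → Γ(X, U.unop) from fun a => trAt hA (ofMod A a))
        (fun a b => (trAt_unique hA (fun V hV hf => by
          rw [map_add, isTr_trAt hA _ V hV hf, isTr_trAt hA _ V hV hf, ← map_add, ← map_add])).symm))
      naturality := fun {U V} i => by
        ext a
        refine (trAt_unique hA (a := res A i.unop.le (ofMod A a))
          (t := resO i.unop.le (trAt hA (ofMod A a))) fun W hW hf => ?_).symm
        rw [res_resO, res_res]
        exact isTr_trAt hA _ W _ hf }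
    (fun U (r : Γ(X, U.unop)) (a : Γ(A.toModule, U.unop)) => by
      refine (trAt_unique hA (a := r • ofMod A a) (t := r * trAt hA (ofMod A a)) fun W hW hf => ?_).symm
      rw [map_mul, res_smul, map_smul, isTr_trAt hA _ W hW hf, smul_eq_mul])⟩

theorem trHom_app_apply (hA : FlatMod.IsFinLocFree A.toModule) (U : X.Opens) (a : Γ(A.toModule, U)) :
    ((trHom hA).val.app (op U)).hom a = trAt hA (ofMod A a) := rfl

theorem trAt_of_free (hA : FlatMod.IsFinLocFree A.toModule) {U : X.Opens} (hU : IsAffineOpen U)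
    [Module.Free Γ(X, U) (Sec A U)] [Module.Finite Γ(X, U) (Sec A U)] (a : Sec A U) :
    trAt hA a = tr A U a := by
  refine TopCat.Sheaf.eq_of_locally_eq' X.sheaf
    (fun p : {r : Γ(X, U) // HasFrame A.toModule (X.basicOpen r)} => X.basicOpen p.1) U
    (fun p => homOfLE (X.basicOpen_le p.1)) (fun x hx => ?_) _ _ fun p => ?_
  · obtain ⟨V, hxV, hVU, -, hf⟩ := exists_affine_hasFrame hA hx
    obtain ⟨r, hr, hxr⟩ := hU.exists_basicOpen_le (V := V) ⟨x, hxV⟩ hx
    exact Opens.mem_iSup.2 ⟨⟨r, hf.mono hr⟩, hxr⟩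
  change resO (X.basicOpen_le p.1) _ = resO (X.basicOpen_le p.1) _
  rw [isTr_trAt hA a _ _ p.2]
  let := (resO (X.basicOpen_le p.1)).toAlgebra
  let := (res A (X.basicOpen_le p.1)).toAlgebra
  let := ((res A (X.basicOpen_le p.1)).comp (algebraMap Γ(X, U) (Sec A U))).toAlgebra
  have : IsScalarTower Γ(X, U) (Sec A U) (Sec A (X.basicOpen p.1)) := IsScalarTower.of_algebraMap_eq' rfl
  have : IsScalarTower Γ(X, U) Γ(X, X.basicOpen p.1) (Sec A (X.basicOpen p.1)) :=
    IsScalarTower.of_algebraMap_eq fun r => res_algebraMap A _ r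
  have : IsLocalization.Away p.1 Γ(X, X.basicOpen p.1) := hU.isLocalization_basicOpen p.1
  have : IsLocalization (Algebra.algebraMapSubmonoid (Sec A U) (Submonoid.powers p.1))
      (Sec A (X.basicOpen p.1)) := by
    rw [Algebra.algebraMapSubmonoid, Submonoid.map_powers]
    exact A.isQC U hU p.1
  exact Algebra.trace_localization Γ(X, U) (Submonoid.powers p.1) (Rₘ := Γ(X, X.basicOpen p.1)) a

theorem isTrace_trHom (hA : FlatMod.IsFinLocFree A.toModule) : FinCov.IsTrace A (trHom hA) :=
  fun U hU hfree hfin a => @trAt_of_free _ _ hA U hU hfree hfin a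

/-- A trace is the trace on affine opens with frames. -/
theorem apply_eq_tr {τ : A.toModule ⟶ Coh.structureModule X} (hτ : FinCov.IsTrace A τ) {V : X.Opens}
    (hV : IsAffineOpen V) (hf : HasFrame A.toModule V) (a : Γ(A.toModule, V)) :
    (τ.val.app (op V)).hom a = tr A V (ofMod A a) :=
  hτ V hV hf.free.1 hf.free.2 a

theorem isTrace_unique (hA : FlatMod.IsFinLocFree A.toModule) {τ τ' : A.toModule ⟶ Coh.structureModule X}
    (hτ : FinCov.IsTrace A τ) (hτ' : FinCov.IsTrace A τ') : τ = τ' :=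
  hom_ext_frame hA fun V hV hf a => (apply_eq_tr hτ hV hf a).trans (apply_eq_tr hτ' hV hf a).symm

end Groth.Agent.FinCov71
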