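import Mathlib
import Groth.Prelude.Def_FinCov
import Groth.Agent.FinCov71.Rank

/-!
Covers from bases of sections over an affine cover of the base.
-/

set_option autoImplicit false
set_option backward.isDefEq.respectTransparency false
set_option backward.isDefEq.respectTransparency.types false

universe u

open CategoryTheory CategoryTheory.Limits AlgebraicGeometry TopologicalSpace

noncomputable section

namespace Groth.Agent.FinCov71

variable {X Y : Scheme.{u}} (f : Y ⟶ X)

theorem prop_morphismRestrict (P : MorphismProperty Scheme.{u}) [P.RespectsIso] [IsAffineHom f]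
    {V : X.Opens} (hV : IsAffineOpen V) (h : P (Spec.map (f.app V))) : P (f ∣_ V) := by
  have hV' : IsAffineOpen (f ⁻¹ᵁ V) := hV.preimage f
  let a : Spec Γ(Y, f ⁻¹ᵁ V) ⟶ (f ⁻¹ᵁ V : Scheme.{u}) := hV'.isoSpec.inv
  have hw : a ≫ (f ∣_ V) = Spec.map (f.app V) ≫ hV.isoSpec.inv := by
    rw [← cancel_mono V.ι]
    simp only [a, Category.assoc, morphismRestrict_ι, IsAffineOpen.isoSpec_inv_ι_assoc,
      IsAffineOpen.isoSpec_inv_ι]
    rw [Scheme.Hom.app_eq_appLE]
    exact (hV.SpecMap_appLE_fromSpec f hV' le_rfl).symm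
  have : f ∣_ V = inv a ≫ Spec.map (f.app V) ≫ hV.isoSpec.inv := by rw [← hw, IsIso.inv_hom_id_assoc]
  rw [this, P.cancel_left_of_respectsIso, P.cancel_right_of_respectsIso]
  exact h

theorem isCover_of_basis [IsAffineHom f] (d : ℕ)
    (h : ∀ x : X, ∃ V : X.Opens, IsAffineOpen V ∧ x ∈ V ∧
      letI := (f.app V).hom.toAlgebra
      Nonempty (Module.Basis (Fin d) Γ(X, V) Γ(Y, f ⁻¹ᵁ V))) :
    FinCov.IsCover f d := by
  choose V hV hxV hb using h
  have hsup : iSup V = ⊤ := top_le_iff.1 fun x _ => Opens.mem_iSup.2 ⟨x, hxV x⟩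
  have hring : ∀ x, (f.app (V x)).hom.Finite ∧ (f.app (V x)).hom.Flat ∧
      (f.app (V x)).hom.FinitePresentation := fun x => by
    letI := (f.app (V x)).hom.toAlgebra
    obtain ⟨b⟩ := hb x
    haveI : Module.Free Γ(X, V x) Γ(Y, f ⁻¹ᵁ V x) := Module.Free.of_basis b
    haveI : Module.Finite Γ(X, V x) Γ(Y, f ⁻¹ᵁ V x) := Module.Finite.of_basis b
    haveI : Module.FinitePresentation Γ(X, V x) Γ(Y, f ⁻¹ᵁ V x) :=
      Module.finitePresentation_of_projective _ _
    exact ⟨RingHom.finite_algebraMap.2 inferInstance, RingHom.flat_algebraMap_iff.2 inferInstance,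
      RingHom.finitePresentation_algebraMap.2 (Algebra.FinitePresentation.of_finitePresentation _ _)⟩
  have hfin : IsFinite f := IsZariskiLocalAtTarget.of_iSup_eq_top V hsup fun x =>
    prop_morphismRestrict f @IsFinite (hV x) ((IsFinite.SpecMap_iff _).2 (hring x).1)
  have hflat : Flat f := IsZariskiLocalAtTarget.of_iSup_eq_top V hsup fun x =>
    prop_morphismRestrict f @Flat (hV x) (Flat.SpecMap_iff.2 (hring x).2.1)
  have hlfp : LocallyOfFinitePresentation f := IsZariskiLocalAtTarget.of_iSup_eq_top V hsup fun x =>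
    prop_morphismRestrict f @LocallyOfFinitePresentation (hV x)
      ((HasRingHomProperty.Spec_iff (P := @LocallyOfFinitePresentation)).2 (hring x).2.2)
  refine ⟨⟨hfin, hflat, hlfp⟩, fun x => ?_⟩
  have hV' : IsAffineOpen (f ⁻¹ᵁ V x) := (hV x).preimage f
  have hsq := (hV x).SpecMap_appLE_fromSpec f hV' le_rfl
  rw [← Scheme.Hom.app_eq_appLE] at hsq
  have hpb : IsPullback hV'.fromSpec (Spec.map (f.app (V x))) f (hV x).fromSpec := by
    refine (IsOpenImmersion.isPullback _ hV'.fromSpec (hV x).fromSpec f hsq.symm ?_).flip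
    ext w
    simp
  let v := (hV x).primeIdealOf ⟨x, hxV x⟩
  have hv : (hV x).fromSpec v = x := (hV x).fromSpec_primeIdealOf ⟨x, hxV x⟩
  refine (congrArg (fun y => f.finrank y) hv).symm.trans
    ((Scheme.Hom.finrank_of_isPullback _ _ _ _ hpb v).symm.trans ?_)
  letI := (f.app (V x)).hom.toAlgebra
  obtain ⟨b⟩ := hb x
  have : Module.Free Γ(X, V x) Γ(Y, f ⁻¹ᵁ V x) := Module.Free.of_basis b
  have : Module.Finite Γ(X, V x) Γ(Y, f ⁻¹ᵁ V x) := Module.Finite.of_basis b
  have : Nontrivial Γ(X, V x) := PrimeSpectrum.nontrivial v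
  rw [show f.app (V x) = CommRingCat.ofHom (algebraMap Γ(X, V x) Γ(Y, f ⁻¹ᵁ V x)) from rfl]
  refine (Scheme.Hom.finrank_SpecMap_algebraMap _ _ v).trans ?_
  rw [Module.rankAtStalk_eq_finrank_of_free]
  exact Module.finrank_eq_card_basis b |>.trans (Fintype.card_fin d)

end Groth.Agent.FinCov71
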