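import Mathlib
import Groth.Agent.FinCov71.Basic
import Groth.Agent.FinCov71.Rank
import Groth.Agent.PullStalk.Exact

/-!
Properties of the trace; algebras `O ⊕ L`.
-/

set_option autoImplicit false
set_option backward.isDefEq.respectTransparency false
set_option backward.isDefEq.respectTransparency.types false

universe u

open CategoryTheory CategoryTheory.Limits AlgebraicGeometry Opposite TopologicalSpace Groth.Agent.LFFrame

noncomputable section

namespace Groth.Agent.FinCov71

variable {X : Scheme.{u}}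

/-- Sections of a kernel. -/
theorem kernel_sections {M N : X.Modules} (τ : M ⟶ N) (W : X.Opens) :
    Function.Injective ((kernel.ι τ).app W) ∧ Function.Exact ((kernel.ι τ).app W) (τ.app W) := by
  let S := ShortComplex.mk (kernel.ι τ) τ (kernel.condition τ)
  have hS : S.Exact := ShortComplex.exact_of_f_is_kernel S (kernelIsKernel τ)
  let F := Scheme.Modules.toPresheaf X ⋙ (evaluation _ _).obj (op W)
  have : Limits.PreservesFiniteLimits ((evaluation (Opens ↥X)ᵒᵖ Ab.{u}).obj (op W)) :=
    ⟨fun J _ _ => inferInstance⟩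
  have : Limits.PreservesFiniteLimits F := Limits.comp_preservesFiniteLimits _ _
  have : F.Additive := Functor.additive_of_preserves_binary_products (F := F)
  obtain ⟨h1, h2⟩ : (S.map F).Exact ∧ Mono (F.map S.f) :=
    ((List.TFAE.out (Functor.preservesFiniteLimits_tfae F) 3 1 rfl rfl).mp (by assumption)) S
      ⟨hS, inferInstanceAs (Mono (kernel.ι τ))⟩
  exact ⟨(AddCommGrpCat.mono_iff_injective _).mp h2, (ShortComplex.ab_exact_iff_function_exact _).mp h1⟩

variable {A : RelSpec.QCAlg X}

theorem exists_affine_frame {d : ℕ} (hA : FlatMod.IsFinLocFreeOfRank d A.toModule) {W : X.Opens} {x : X}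
    (hx : x ∈ W) :
    ∃ (U : X.Opens) (e : Fin d → Γ(A.toModule, U)) (V : X.Opens),
      x ∈ V ∧ V ≤ W ∧ V ≤ U ∧ IsAffineOpen V ∧ IsFrame A.toModule U e := by
  obtain ⟨U, e, hxU, he⟩ := exists_isFrame_rank hA x
  obtain ⟨_, ⟨V, hV, rfl⟩, hxV, hVU⟩ :=
    X.isBasis_affineOpens.exists_subset_of_mem_open (show x ∈ U ⊓ W from ⟨hxU, hx⟩) (U ⊓ W).2
  exact ⟨U, e, V, hxV, hVU.trans inf_le_right, hVU.trans inf_le_left, hV, he⟩

variable (τ : A.toModule ⟶ Coh.structureModule X)

/-- A morphism to the structure sheaf as a linear form on sections. -/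
def lin (W : X.Opens) : Sec A W →ₗ[Γ(X, W)] Γ(X, W) where
  toFun a := τ.app W (toMod A a)
  map_add' a b := map_add (τ.app W).hom (toMod A a) (toMod A b)
  map_smul' r a := Scheme.Modules.Hom.app_smul τ r (toMod A a)

theorem lin_apply (W : X.Opens) (a : Sec A W) : lin τ W a = τ.app W (toMod A a) := rfl

theorem res_lin {W V : X.Opens} (h : V ≤ W) (a : Sec A W) : resO h (lin τ W a) = lin τ V (res A h a) :=
  (NatTrans.naturality_apply τ.mapPresheaf (homOfLE h).op (toMod A a)).symm

theorem lin_algebraMap {d : ℕ} (hA : FlatMod.IsFinLocFreeOfRank d A.toModule)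
    (hτ : FinCov.IsTrace A τ) (W : X.Opens) (r : Γ(X, W)) :
    lin τ W (algebraMap Γ(X, W) (Sec A W) r) = d • r := by
  refine eq_of_locally (Coh.structureModule X) (U := W) _ _ fun x hx => ?_
  obtain ⟨U, e, V, hxV, hVW, hVU, hV, he⟩ := exists_affine_frame hA hx
  refine ⟨V, hVW, hxV, ?_⟩
  change resO hVW (lin τ W _) = resO hVW (d • r)
  rw [res_lin, res_algebraMap, lin_apply,
    show τ.app V (toMod A _) = tr A V _ from apply_eq_tr hτ hV ⟨U, d, e, hVU, he⟩ _,
    tr, Algebra.trace_algebraMap_of_basis (frameBasis he hVU), Fintype.card_fin, map_nsmul]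

theorem strMod_comp {d : ℕ} (hA : FlatMod.IsFinLocFreeOfRank d A.toModule) (hτ : FinCov.IsTrace A τ) :
    FinCov.strMod A ≫ τ = d • 𝟙 (Coh.structureModule X) := by
  refine Scheme.Modules.hom_ext _ _ fun W => ?_
  ext r
  refine (lin_algebraMap τ hA hτ W r).trans ?_
  let ev : (Coh.structureModule X ⟶ Coh.structureModule X) →+ Γ(Coh.structureModule X, W) :=
    AddMonoidHom.mk' (fun φ => φ.app W r) (fun φ ψ => rfl)
  exact (map_nsmul ev d (𝟙 (Coh.structureModule X))).symm

theorem isUnit_natCast {d : ℕ} (hd : IsUnit ((d : Γ(X, ⊤)))) (W : X.Opens) : IsUnit (d : Γ(X, W)) := by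
  simpa using hd.map (resO (le_top : W ≤ ⊤))

theorem isSplitEpi_trace {d : ℕ} (hA : FlatMod.IsFinLocFreeOfRank d A.toModule) (hτ : FinCov.IsTrace A τ)
    (hd : IsUnit ((d : Γ(X, ⊤)))) : IsSplitEpi τ := by
  haveI : IsIso (d • 𝟙 (Coh.structureModule X)) := by
    refine isIso_of_locally_bijective _ fun x => ⟨⊤, trivial, fun V _ => ?_⟩
    let ev : Γ(X, V) → Γ(X, V) := fun r => (d : Γ(X, V)) * r
    have heq : ((d • 𝟙 (Coh.structureModule X) : Coh.structureModule X ⟶ _).app V : Γ(X, V) → Γ(X, V)) = ev := by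
      funext r
      let ev' : (Coh.structureModule X ⟶ Coh.structureModule X) →+ Γ(Coh.structureModule X, V) :=
        AddMonoidHom.mk' (fun φ => φ.app V r) (fun φ ψ => rfl)
      exact (map_nsmul ev' d (𝟙 (Coh.structureModule X))).trans (nsmul_eq_mul d (show Γ(X, V) from r))
    obtain ⟨u, hu⟩ := isUnit_natCast hd V
    have hb : Function.Bijective ev := by
      change Function.Bijective fun r => (d : Γ(X, V)) * r
      rw [← hu]
      exact u.mulLeft.bijective
    exact heq ▸ hb
  exact ⟨⟨inv (d • 𝟙 (Coh.structureModule X)) ≫ FinCov.strMod A, by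
    rw [Category.assoc, strMod_comp τ hA hτ, IsIso.inv_hom_id]⟩⟩

theorem exists_kernel_frame {d : ℕ} (hA : FlatMod.IsFinLocFreeOfRank d A.toModule) (hτ : FinCov.IsTrace A τ)
    (hd : IsUnit ((d : Γ(X, ⊤)))) (x : X) :
    ∃ (V : X.Opens) (g : Fin (d - 1) → Γ(kernel τ, V)), x ∈ V ∧ IsFrame (kernel τ) V g := by
  classical
  obtain ⟨U, e, V, hxV, -, hVU, -, he⟩ := exists_affine_frame hA (W := ⊤) (x := x) trivial
  obtain ⟨u, hu⟩ := isUnit_natCast hd V
  have h1 : lin τ V (algebraMap Γ(X, V) (Sec A V) (↑u⁻¹ : Γ(X, V))) = 1 := by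
    rw [lin_algebraMap τ hA hτ, nsmul_eq_mul, ← hu, Units.mul_inv]
  rw [← (frameBasis he hVU).sum_repr (algebraMap Γ(X, V) (Sec A V) (↑u⁻¹ : Γ(X, V))), map_sum] at h1
  obtain ⟨i0, hi0⟩ : ∃ i, IsUnit (X.presheaf.germ V x hxV (lin τ V (frameBasis he hVU i))) := by
    have h2 := congrArg (X.presheaf.germ V x hxV).hom h1
    simp only [map_sum, map_smul, smul_eq_mul, map_mul, map_one] at h2
    by_contra hall
    simp only [not_exists] at hall
    apply (IsLocalRing.maximalIdeal.isMaximal (X.presheaf.stalk x)).ne_top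
    rw [Ideal.eq_top_iff_one]
    have hmem : ∀ i, X.presheaf.germ V x hxV (lin τ V (frameBasis he hVU i)) ∈
        IsLocalRing.maximalIdeal (X.presheaf.stalk x) := fun i => hall i
    simp only [← h2]
    exact Ideal.sum_mem _ fun i _ => Ideal.mul_mem_left _ _ (hmem i)
  cases d with
  | zero => exact i0.elim0
  | succ m =>
  let V' := X.basicOpen (lin τ V (frameBasis he hVU i0))
  have hV' : V' ≤ V := X.basicOpen_le _
  have hunit : IsUnit (resO hV' (lin τ V (frameBasis he hVU i0))) :=
    RingedSpace.isUnit_res_basicOpen _ _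
  obtain ⟨w, hw⟩ := hunit.exists_left_inv
  let b := frameBasis he (hV'.trans hVU)
  have hb : lin τ V' (b i0) = resO hV' (lin τ V (frameBasis he hVU i0)) := by
    rw [res_lin]
    simp only [b, frameBasis_apply, res_res]
  rw [← hb] at hw
  let c : Fin m → Sec A V' := fun j => b (i0.succAbove j) - (lin τ V' (b (i0.succAbove j)) * w) • b i0
  have hc : ∀ j, τ.app V' (toMod A (c j)) = 0 := fun j => by
    rw [← lin_apply]
    simp [c, map_sub, map_smul, mul_assoc, hw]
  choose g hg using fun j => ((kernel_sections τ V').2 _).1 (hc j)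
  refine ⟨V', fun j => g (Fin.cast (by omega) j), by
    rw [Scheme.mem_basicOpen _ _ x hxV]; exact hi0, fun W hW => ?_⟩
  let bW := frameBasis he (hW.trans (hV'.trans hVU))
  have hbW : ∀ i, res A hW (b i) = bW i := fun i => by simp only [b, bW, frameBasis_apply, res_res]
  have hcomb : ∀ a : Fin m → Γ(X, W), ((kernel.ι τ).app W
      (∑ j, a j • (kernel τ).presheaf.map (homOfLE hW).op (g j)) : Sec A W) =
      ∑ j, a j • (bW (i0.succAbove j) - resO hW (lin τ V' (b (i0.succAbove j)) * w) • bW i0) := fun a => by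
    rw [map_sum]
    refine Finset.sum_congr rfl fun j _ => ?_
    refine (Scheme.Modules.Hom.app_smul (kernel.ι τ) (a j) _).trans ?_
    change (a j : Γ(X, W)) • (ofMod A ((kernel.ι τ).app W _)) = _
    congr 1
    refine (NatTrans.naturality_apply (kernel.ι τ).mapPresheaf (homOfLE hW).op (g j)).trans ?_
    change res A hW (ofMod A ((kernel.ι τ).app V' (g j))) = _
    rw [show ofMod A ((kernel.ι τ).app V' (g j)) = c j from hg j]
    simp only [c, map_sub, res_smul, hbW]
  have hcoord : ∀ (a : Fin m → Γ(X, W)) j, bW.repr (ofMod A ((kernel.ι τ).app W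
      (∑ j, a j • (kernel τ).presheaf.map (homOfLE hW).op (g j)))) (i0.succAbove j) = a j := fun a j => by
    rw [show ofMod A _ = _ from hcomb a]
    simp [Finsupp.single_apply, (Fin.succAbove_ne i0 j).symm]
  let cW : (Fin m → Γ(X, W)) → Γ(kernel τ, W) := fun a =>
    ∑ j, a j • (kernel τ).presheaf.map (homOfLE hW).op (g j)
  have hbij : Function.Bijective cW := by
    constructor
    · intro a a' h
      funext j
      exact (hcoord a j).symm.trans ((congrArg (fun z => bW.repr (ofMod A ((kernel.ι τ).app W z))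
        (i0.succAbove j)) h).trans (hcoord a' j))
    · intro t
      refine ⟨fun j => bW.repr (ofMod A ((kernel.ι τ).app W t)) (i0.succAbove j), (kernel_sections τ W).1 ?_⟩
      set z := cW fun j => bW.repr (ofMod A ((kernel.ι τ).app W t)) (i0.succAbove j) with hzdef
      have hz : ∀ z : Γ(kernel τ, W), lin τ W (ofMod A ((kernel.ι τ).app W z)) = 0 := fun z =>
        ((kernel_sections τ W).2 _).2 ⟨z, rfl⟩
      let D : Sec A W := ofMod A ((kernel.ι τ).app W z) - ofMod A ((kernel.ι τ).app W t)
      have hD : D = bW.repr D i0 • bW i0 := by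
        conv_lhs => rw [← bW.sum_repr D]
        rw [Fin.sum_univ_succAbove _ i0, Finset.sum_eq_zero (fun j _ => ?_), add_zero]
        rw [show bW.repr D (i0.succAbove j) = 0 from ?_, zero_smul]
        simp only [D, map_sub, Finsupp.sub_apply, z, cW, hcoord, sub_self]
      have h0 : lin τ W D = 0 := by rw [map_sub, hz, hz, sub_zero]
      rw [hD, map_smul, smul_eq_mul, ← hbW, ← res_lin] at h0
      have hu' : IsUnit (resO hW (lin τ V' (b i0))) :=
        IsUnit.map (resO hW) (IsUnit.of_mul_eq_one_right w hw)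
      rw [hu'.mul_left_eq_zero] at h0
      rw [h0, zero_smul] at hD
      exact sub_eq_zero.1 hD
  exact hbij

end Groth.Agent.FinCov71
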