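import Mathlib
import Groth.Agent.FinCov71.Trace

/-!
Algebras `O ⊕ L` of rank two.
-/

set_option autoImplicit false
set_option backward.isDefEq.respectTransparency false
set_option backward.isDefEq.respectTransparency.types false

universe u

open CategoryTheory CategoryTheory.Limits AlgebraicGeometry Opposite TopologicalSpace Groth.Agent.LFFrame

noncomputable section

namespace Groth.Agent.FinCov71

variable {X : Scheme.{u}} {A : RelSpec.QCAlg X} {L : X.Modules}
  {m : CohB1.tensorMod L L ⟶ Coh.structureModule X} {j : L ⟶ A.toModule}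

/-- The section `j l`. -/
def jSec (j : L ⟶ A.toModule) {W : X.Opens} (l : Γ(L, W)) : Sec A W := ofMod A (j.app W l)

theorem res_jSec {U W : X.Opens} (h : W ≤ U) (l : Γ(L, U)) :
    res A h (jSec j l) = jSec j (L.presheaf.map (homOfLE h).op l) :=
  (NatTrans.naturality_apply j.mapPresheaf (homOfLE h).op l).symm

theorem jSec_smul {W : X.Opens} (r : Γ(X, W)) (l : Γ(L, W)) : jSec j (r • l) = r • jSec j l :=
  Scheme.Modules.Hom.app_smul j r l

theorem exists_dbl_frame (hL : PicF.IsInvertible L) (h : FinCov.IsDblAlg L m A j) (x : X) :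
    ∃ (U : X.Opens) (l : Fin 1 → Γ(L, U)) (e : Fin 2 → Γ(A.toModule, U)), x ∈ U ∧
      IsFrame L U l ∧ IsFrame A.toModule U e ∧ ofMod A (e 0) = 1 ∧ ofMod A (e 1) = jSec j (l 0) := by
  obtain ⟨U, l, hx, hl⟩ := exists_isFrame_invertible hL x
  refine ⟨U, l, ![toMod A 1, j.app U (l 0)], hx, hl, fun V hV => ?_, rfl, rfl⟩
  let E : (Fin 2 → Γ(X, V)) → Γ(X, V) × Γ(L, V) := fun a => (a 0, comb L l hV fun _ => a 1)
  have hE : Function.Bijective E := by
    constructor
    · intro a b hab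
      obtain ⟨h0, h1⟩ := Prod.ext_iff.1 hab
      funext i
      fin_cases i
      · exact h0
      · exact congrFun ((hl V hV).1 (a₁ := fun _ => a 1) (a₂ := fun _ => b 1) h1) 0
    · rintro ⟨r, s⟩
      obtain ⟨c, hc⟩ := (hl V hV).2 s
      refine ⟨![r, c 0], Prod.ext rfl ?_⟩
      refine Eq.trans (congrArg (comb L l hV) (funext fun i => ?_)) hc
      rw [Subsingleton.elim i 0]
  have heq : comb A.toModule (![toMod A 1, j.app U (l 0)]) hV = (fun p : Γ(X, V) × L.val.obj (op V) =>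
      (A.str.app (op V)).hom p.1 + FinCov.toSec A ((j.val.app (op V)).hom p.2)) ∘ E := by
    funext a
    simp only [Function.comp_apply, comb, E, Fin.sum_univ_two, Fin.sum_univ_one]
    change a 0 • res A hV 1 + a 1 • res A hV (jSec j (l 0)) =
      algebraMap Γ(X, V) (Sec A V) (a 0) + jSec j (a 1 • L.presheaf.map (homOfLE hV).op (l 0))
    rw [map_one, jSec_smul, res_jSec, Algebra.smul_def (a 0), mul_one]
  exact heq ▸ (h.1 V).comp hE

theorem isFinLocFreeOfRank_two (hL : PicF.IsInvertible L) (h : FinCov.IsDblAlg L m A j) :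
    FlatMod.IsFinLocFreeOfRank 2 A.toModule :=
  isFinLocFreeOfRank_of_frames fun x => by
    obtain ⟨U, l, e, hx, -, he, -⟩ := exists_dbl_frame hL h x
    exact ⟨U, e, hx, he⟩

theorem lin_jSec (hL : PicF.IsInvertible L) (h : FinCov.IsDblAlg L m A j)
    {τ : A.toModule ⟶ Coh.structureModule X} (hτ : FinCov.IsTrace A τ) {W : X.Opens} (s : Γ(L, W)) :
    lin τ W (jSec j s) = 0 := by
  refine eq_of_locally (Coh.structureModule X) (U := W) _ _ fun x hx => ?_
  obtain ⟨U, l, e, hxU, hl, he, he0, he1⟩ := exists_dbl_frame hL h x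
  obtain ⟨_, ⟨V, hV, rfl⟩, hxV, hVU⟩ :=
    X.isBasis_affineOpens.exists_subset_of_mem_open (show x ∈ U ⊓ W from ⟨hxU, hx⟩) (U ⊓ W).2
  have hVU' : V ≤ U := hVU.trans inf_le_left
  have hVW : V ≤ W := hVU.trans inf_le_right
  refine ⟨V, hVW, hxV, ?_⟩
  change resO hVW (lin τ W _) = resO hVW 0
  rw [res_lin, res_jSec, map_zero, lin_apply,
    show τ.app V (toMod A _) = tr A V _ from apply_eq_tr hτ hV ⟨U, 2, e, hVU', he⟩ _]
  obtain ⟨c, hc⟩ := (hl V hVU').2 (L.presheaf.map (homOfLE hVW).op s)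
  rw [← hc]
  simp only [comb, Fin.sum_univ_one, jSec_smul, map_smul]
  let b := frameBasis he hVU'
  have hb0 : b 0 = 1 := by simp [b, frameBasis_apply, he0]
  have hb1 : b 1 = jSec j (L.presheaf.map (homOfLE hVU').op (l 0)) := by
    simp [b, frameBasis_apply, he1, res_jSec]
  have hsq : b 1 * b 1 = algebraMap Γ(X, V) (Sec A V) ((m.val.app (op V)).hom (SecTwist.tmul L L V
      (L.presheaf.map (homOfLE hVU').op (l 0)) (L.presheaf.map (homOfLE hVU').op (l 0)))) := by
    rw [hb1]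
    exact h.2 V _ _
  have e01 : b.repr (b 1) 0 = 0 := by simp
  have e10 : b.repr (b 0) 1 = 0 := by simp
  have htr : tr A V (b 1) = 0 := by
    rw [tr, Algebra.trace_eq_matrix_trace b, Matrix.trace_fin_two]
    simp only [Algebra.leftMulMatrix_eq_repr_mul]
    rw [hb0, mul_one, hsq, Algebra.algebraMap_eq_smul_one, ← hb0, map_smul, Finsupp.smul_apply, e01, e10,
      smul_zero, add_zero]
  rw [← hb1, htr, smul_zero]

theorem trace_eq_zero_iff (hL : PicF.IsInvertible L) (h : FinCov.IsDblAlg L m A j)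
    (h2 : IsUnit (2 : Γ(X, ⊤))) {τ : A.toModule ⟶ Coh.structureModule X} (hτ : FinCov.IsTrace A τ)
    (W : X.Opens) (a : Sec A W) : lin τ W a = 0 ↔ ∃ l : Γ(L, W), jSec j l = a := by
  refine ⟨fun ha => ?_, ?_⟩
  · obtain ⟨⟨s, l⟩, hsl⟩ := (h.1 W).2 a
    change algebraMap Γ(X, W) (Sec A W) s + jSec j l = a at hsl
    rw [← hsl, map_add, lin_algebraMap τ (isFinLocFreeOfRank_two hL h) hτ, lin_jSec hL h hτ,
      add_zero, nsmul_eq_mul] at ha
    rw [(isUnit_natCast (d := 2) (by exact_mod_cast h2) W).mul_right_eq_zero] at ha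
    exact ⟨l, by rw [← hsl, ha, map_zero, zero_add]⟩
  · rintro ⟨l, rfl⟩
    exact lin_jSec hL h hτ l

end Groth.Agent.FinCov71
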