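import Mathlib
import Groth.Agent.FinCov71.Rank
import Groth.Agent.QCoh.Basic
import Groth.Agent.PerfTri.Betti
import Groth.Prelude.Def_FinCov

/-!
The algebra `O ⊕ L` of an invertible module with a pairing.
-/

set_option autoImplicit false
set_option backward.isDefEq.respectTransparency false
set_option backward.isDefEq.respectTransparency.types false

universe u

open CategoryTheory CategoryTheory.Limits AlgebraicGeometry Opposite TopologicalSpace Groth.Agent.LFFrame
open scoped TensorProduct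

noncomputable section

namespace Groth.Agent.FinCov71.DblConstr

variable {X : Scheme.{u}} {L : X.Modules} (m : CohB1.tensorMod L L ⟶ Coh.structureModule X)

/-- The pairing on sections, as an additive map on the sectionwise tensor product. -/
def mT (U : X.Opens) : Γ(L, U) ⊗[Γ(X, U)] Γ(L, U) →+ Γ(X, U) :=
  AddMonoidHom.mk'
    (fun z => (m.val.app (op U)).hom (((SecTwist.toTensor L L).app (op U)).hom z))
    (fun a b => (congrArg (m.val.app (op U)).hom (map_add ((SecTwist.toTensor L L).app (op U)).hom a b)).trans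
      (map_add (m.val.app (op U)).hom _ _))

/-- The pairing on sections. -/
def mu (U : X.Opens) (a b : Γ(L, U)) : Γ(X, U) := (m.val.app (op U)).hom (SecTwist.tmul L L U a b)

theorem mu_eq (U : X.Opens) (a b : Γ(L, U)) : mu m U a b = mT m U (a ⊗ₜ[Γ(X, U)] b) := rfl

theorem mT_smul (U : X.Opens) (r : Γ(X, U)) (z : Γ(L, U) ⊗[Γ(X, U)] Γ(L, U)) :
    mT m U (r • z) = r * mT m U z :=
  (congrArg (m.val.app (op U)).hom (map_smul ((SecTwist.toTensor L L).app (op U)).hom r z)).trans
    (map_smul (m.val.app (op U)).hom r (((SecTwist.toTensor L L).app (op U)).hom z))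

theorem mu_add_left (U : X.Opens) (a b c : Γ(L, U)) : mu m U (a + b) c = mu m U a c + mu m U b c := by
  rw [mu_eq, mu_eq, mu_eq, TensorProduct.add_tmul, map_add]

theorem mu_add_right (U : X.Opens) (a b c : Γ(L, U)) : mu m U a (b + c) = mu m U a b + mu m U a c := by
  rw [mu_eq, mu_eq, mu_eq, TensorProduct.tmul_add, map_add]

theorem mu_zero_left (U : X.Opens) (c : Γ(L, U)) : mu m U 0 c = 0 := by
  rw [mu_eq, TensorProduct.zero_tmul, map_zero]

theorem mu_zero_right (U : X.Opens) (c : Γ(L, U)) : mu m U c 0 = 0 := by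
  rw [mu_eq, TensorProduct.tmul_zero, map_zero]

theorem mu_smul_left (U : X.Opens) (r : Γ(X, U)) (a b : Γ(L, U)) : mu m U (r • a) b = r * mu m U a b := by
  rw [mu_eq, mu_eq, ← TensorProduct.smul_tmul', mT_smul]

theorem mu_smul_right (U : X.Opens) (r : Γ(X, U)) (a b : Γ(L, U)) : mu m U a (r • b) = r * mu m U a b := by
  rw [mu_eq, mu_eq, TensorProduct.tmul_smul, mT_smul]

theorem res_mu {U V : X.Opens} (h : V ≤ U) (a b : Γ(L, U)) :
    X.presheaf.map (homOfLE h).op (mu m U a b) =
      mu m V (L.presheaf.map (homOfLE h).op a) (L.presheaf.map (homOfLE h).op b) :=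
  (NatTrans.naturality_apply m.mapPresheaf (homOfLE h).op (SecTwist.tmul L L U a b)).symm.trans
    (congrArg (m.val.app (op V)).hom (SecTwist.map_tmul L L (homOfLE h) a b))

/-- Hypothesis: local generators. -/
class HasGen (L : X.Modules) : Prop where
  out : PicF.IsInvertible L

variable [hL : HasGen L]

theorem mu_comm (U : X.Opens) (a b : Γ(L, U)) : mu m U a b = mu m U b a := by
  refine TopCat.Sheaf.eq_of_locally_eq' X.sheaf
    (fun x : U => U ⊓ (exists_isFrame_invertible hL.out x.1).choose) U (fun x => homOfLE inf_le_left)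
    (fun x hx => Opens.mem_iSup.2 ⟨⟨x, hx⟩, hx,
      (exists_isFrame_invertible hL.out x).choose_spec.choose_spec.1⟩) _ _ fun x => ?_
  obtain ⟨e, hxe, he⟩ := (exists_isFrame_invertible hL.out x.1).choose_spec
  set V := U ⊓ (exists_isFrame_invertible hL.out x.1).choose with hVdef
  change X.presheaf.map (homOfLE (inf_le_left : V ≤ U)).op _ =
    X.presheaf.map (homOfLE (inf_le_left : V ≤ U)).op _
  rw [res_mu, res_mu]
  obtain ⟨α, hα⟩ := (he V inf_le_right).2 (L.presheaf.map (homOfLE (inf_le_left : V ≤ U)).op a)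
  obtain ⟨β, hβ⟩ := (he V inf_le_right).2 (L.presheaf.map (homOfLE (inf_le_left : V ≤ U)).op b)
  rw [← hα, ← hβ]
  simp only [comb, Fin.sum_univ_one, mu_smul_left, mu_smul_right]
  ring

theorem mu_assoc (U : X.Opens) (a b c : Γ(L, U)) : mu m U a b • c = mu m U b c • a := by
  refine TopCat.Sheaf.eq_of_locally_eq' ⟨L.presheaf, L.isSheaf⟩
    (fun x : U => U ⊓ (exists_isFrame_invertible hL.out x.1).choose) U (fun x => homOfLE inf_le_left)
    (fun x hx => Opens.mem_iSup.2 ⟨⟨x, hx⟩, hx,
      (exists_isFrame_invertible hL.out x).choose_spec.choose_spec.1⟩) _ _ fun x => ?_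
  obtain ⟨e, hxe, he⟩ := (exists_isFrame_invertible hL.out x.1).choose_spec
  set V := U ⊓ (exists_isFrame_invertible hL.out x.1).choose with hVdef
  change L.presheaf.map (homOfLE (inf_le_left : V ≤ U)).op _ =
    L.presheaf.map (homOfLE (inf_le_left : V ≤ U)).op _
  rw [Scheme.Modules.map_smul, Scheme.Modules.map_smul, res_mu, res_mu]
  obtain ⟨α, hα⟩ := (he V inf_le_right).2 (L.presheaf.map (homOfLE (inf_le_left : V ≤ U)).op a)
  obtain ⟨β, hβ⟩ := (he V inf_le_right).2 (L.presheaf.map (homOfLE (inf_le_left : V ≤ U)).op b)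
  obtain ⟨γ, hγ⟩ := (he V inf_le_right).2 (L.presheaf.map (homOfLE (inf_le_left : V ≤ U)).op c)
  rw [← hα, ← hβ, ← hγ]
  simp only [comb, Fin.sum_univ_one, mu_smul_left, mu_smul_right, smul_smul]
  congr 1
  ring

/-- Sections of `O ⊕ L`. -/
@[ext]
structure Sec (m : CohB1.tensorMod L L ⟶ Coh.structureModule X) (U : X.Opens) : Type u where
  /-- the function -/
  fn : Γ(X, U)
  /-- the section of `L` -/
  sec : Γ(L, U)

variable {U : X.Opens}

instance : Zero (Sec m U) := ⟨⟨0, 0⟩⟩
instance : One (Sec m U) := ⟨⟨1, 0⟩⟩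
instance : Add (Sec m U) := ⟨fun p q => ⟨p.fn + q.fn, p.sec + q.sec⟩⟩
instance : Neg (Sec m U) := ⟨fun p => ⟨-p.fn, -p.sec⟩⟩
instance : Mul (Sec m U) :=
  ⟨fun p q => ⟨p.fn * q.fn + mu m U p.sec q.sec, p.fn • q.sec + q.fn • p.sec⟩⟩

omit hL in
@[simp] theorem zero_fn : (0 : Sec m U).fn = 0 := rfl
omit hL in
@[simp] theorem zero_sec : (0 : Sec m U).sec = 0 := rfl
omit hL in
@[simp] theorem one_fn : (1 : Sec m U).fn = 1 := rfl
omit hL in
@[simp] theorem one_sec : (1 : Sec m U).sec = 0 := rfl
omit hL in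
@[simp] theorem add_fn (p q : Sec m U) : (p + q).fn = p.fn + q.fn := rfl
omit hL in
@[simp] theorem add_sec (p q : Sec m U) : (p + q).sec = p.sec + q.sec := rfl
omit hL in
@[simp] theorem neg_fn (p : Sec m U) : (-p).fn = -p.fn := rfl
omit hL in
@[simp] theorem neg_sec (p : Sec m U) : (-p).sec = -p.sec := rfl
omit hL in
@[simp] theorem mul_fn (p q : Sec m U) : (p * q).fn = p.fn * q.fn + mu m U p.sec q.sec := rfl
omit hL in
@[simp] theorem mul_sec (p q : Sec m U) : (p * q).sec = p.fn • q.sec + q.fn • p.sec := rfl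

instance : CommRing (Sec m U) where
  add_assoc p q r := Sec.ext (add_assoc ..) (add_assoc ..)
  zero_add p := Sec.ext (zero_add _) (zero_add _)
  add_zero p := Sec.ext (add_zero _) (add_zero _)
  add_comm p q := Sec.ext (add_comm ..) (add_comm ..)
  neg_add_cancel p := Sec.ext (neg_add_cancel _) (neg_add_cancel _)
  nsmul := nsmulRec
  zsmul := zsmulRec
  mul_assoc p q r := by
    refine Sec.ext ?_ ?_
    · simp only [mul_fn, mul_sec, mu_add_left, mu_add_right, mu_smul_left, mu_smul_right]; ring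
    · simp only [mul_fn, mul_sec, add_smul, smul_add, smul_smul, mu_assoc m U p.sec q.sec r.sec,
        mul_comm r.fn]
      abel
  one_mul p := Sec.ext (by simp [mu_zero_left]) (by simp)
  mul_one p := Sec.ext (by simp [mu_zero_right]) (by simp)
  mul_comm p q := Sec.ext (by simp [mu_comm m U p.sec, mul_comm p.fn]) (by simp [add_comm])
  left_distrib p q r := by
    refine Sec.ext ?_ ?_
    · simp only [mul_fn, add_fn, add_sec, mu_add_right]; ring
    · simp only [mul_sec, add_fn, add_sec, add_smul, smul_add]; abel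
  right_distrib p q r := by
    refine Sec.ext ?_ ?_
    · simp only [mul_fn, add_fn, add_sec, mu_add_left]; ring
    · simp only [mul_sec, add_fn, add_sec, add_smul, smul_add]; abel
  zero_mul p := Sec.ext (by simp [mu_zero_left]) (by simp)
  mul_zero p := Sec.ext (by simp [mu_zero_right]) (by simp)

/-- Restriction. -/
def resHom {V : X.Opens} (h : V ≤ U) : Sec m U →+* Sec m V where
  toFun p := ⟨X.presheaf.map (homOfLE h).op p.fn, L.presheaf.map (homOfLE h).op p.sec⟩
  map_one' := Sec.ext (map_one _) (map_zero _)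
  map_mul' p q := Sec.ext ((map_add _ _ _).trans (congrArg₂ (· + ·) (map_mul _ _ _) (res_mu m h _ _)))
    ((map_add _ _ _).trans (congrArg₂ (· + ·) (L.map_smul _ _ _) (L.map_smul _ _ _)))
  map_zero' := Sec.ext (map_zero _) (map_zero _)
  map_add' p q := Sec.ext (map_add _ _ _) (map_add _ _ _)

/-- The presheaf of rings. -/
def presheaf : TopCat.Presheaf CommRingCat.{u} X.carrier where
  obj U := CommRingCat.of (Sec m U.unop)
  map i := CommRingCat.ofHom (resHom m i.unop.le)
  map_id U := by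
    ext p
    · exact congr($(X.presheaf.map_id U) p.fn)
    · exact congr($(L.presheaf.map_id U) p.sec)
  map_comp {U V W} i k := by
    ext p
    · exact congr($(X.presheaf.map_comp i k) p.fn)
    · exact congr($(L.presheaf.map_comp i k) p.sec)

theorem isSheaf_presheaf : (presheaf m).IsSheaf := by
  rw [TopCat.Presheaf.isSheaf_iff_isSheafUniqueGluing]
  intro ι U sf hsf
  obtain ⟨a, ha, ha'⟩ := TopCat.Sheaf.existsUnique_gluing X.sheaf U (fun i => (sf i).fn)
    fun i k => congrArg Sec.fn (hsf i k)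
  obtain ⟨b, hb, hb'⟩ := TopCat.Sheaf.existsUnique_gluing ⟨L.presheaf, L.isSheaf⟩ U (fun i => (sf i).sec)
    fun i k => congrArg Sec.sec (hsf i k)
  exact ⟨⟨a, b⟩, fun i => Sec.ext (ha i) (hb i),
    fun s hs => Sec.ext (ha' s.fn fun i => congrArg Sec.fn (hs i))
      (hb' s.sec fun i => congrArg Sec.sec (hs i))⟩

/-- The structure map on sections. -/
def strHom (U : X.Opens) : Γ(X, U) →+* Sec m U where
  toFun r := ⟨r, 0⟩
  map_one' := rfl
  map_mul' r s := Sec.ext (by simp [mu_zero_left]) (by simp)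
  map_zero' := rfl
  map_add' r s := Sec.ext rfl (add_zero _).symm

/-- The structure map. -/
def str : X.presheaf ⟶ presheaf m where
  app U := CommRingCat.ofHom (strHom m U.unop)
  naturality U V i := by
    ext r
    exact Sec.ext rfl (map_zero (L.presheaf.map i).hom).symm

theorem isQC : RelSpec.IsQC (presheaf m) (str m) := by
  haveI : L.IsQuasicoherent := Groth.Agent.PerfTri.Betti.isQuasicoherent_of_isFinLocFree (isFinLocFree_of_rank
    (isFinLocFreeOfRank_of_frames fun x => exists_isFrame_invertible hL.out x))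
  intro U hU r
  let D := X.basicOpen r
  letI : Algebra (Sec m U) (Sec m D) := (resHom m (X.basicOpen_le r)).toAlgebra
  change IsLocalization.Away (strHom m U r) (Sec m D)
  letI : Algebra Γ(X, U) Γ(X, D) := (X.presheaf.map (homOfLE (X.basicOpen_le r)).op).hom.toAlgebra
  haveI : IsLocalization.Away r Γ(X, D) := hU.isLocalization_basicOpen r
  let r' : Γ(X, D) := X.presheaf.map (homOfLE (X.basicOpen_le r)).op r
  have hr' : IsUnit r' := RingedSpace.isUnit_res_basicOpen X.toRingedSpace r
  have hpow : ∀ n : ℕ, strHom m U r ^ n = strHom m U (r ^ n) := fun n => (map_pow _ _ _).symm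
  have hact : ∀ (n : ℕ) (z : Sec m D),
      algebraMap (Sec m U) (Sec m D) (strHom m U r ^ n) * z = ⟨r' ^ n * z.fn, r' ^ n • z.sec⟩ := fun n z => by
    rw [hpow]
    refine Sec.ext ?_ ?_
    · change X.presheaf.map _ (r ^ n) * z.fn + mu m D (L.presheaf.map _ 0) z.sec = _
      rw [map_zero, mu_zero_left, add_zero, map_pow]
    · change X.presheaf.map _ (r ^ n) • z.sec + z.fn • L.presheaf.map _ 0 = _
      rw [map_zero, smul_zero, add_zero, map_pow]
  refine ⟨?_, ?_, ?_⟩
  · rintro ⟨_, n, rfl⟩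
    rw [map_pow]
    refine IsUnit.pow n ?_
    refine IsUnit.of_mul_eq_one (strHom m D ↑hr'.unit⁻¹) ?_
    change resHom m (X.basicOpen_le r) (strHom m U r) * strHom m D ↑hr'.unit⁻¹ = 1
    rw [show resHom m (X.basicOpen_le r) (strHom m U r) = strHom m D r' from
      Sec.ext rfl (map_zero _), ← map_mul, hr'.mul_val_inv, map_one]
  · intro z
    obtain ⟨n, t, ht⟩ := (Groth.Agent.QCoh.isLocalizingAt L hU r).surj z.sec
    obtain ⟨⟨a, ⟨_, k, rfl⟩⟩, ha⟩ := IsLocalization.surj (M := Submonoid.powers r) z.fn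
    refine ⟨⟨⟨r ^ n * a, r ^ k • t⟩, ⟨strHom m U r ^ (n + k), n + k, rfl⟩⟩, ?_⟩
    rw [mul_comm, hact]
    refine Sec.ext ?_ ?_
    · change r' ^ (n + k) * z.fn = X.presheaf.map _ (r ^ n * a)
      rw [map_mul, map_pow, pow_add, mul_assoc, mul_comm (r' ^ k)]
      refine congrArg _ (Eq.trans ?_ ha)
      rw [map_pow]
      rfl
    · change r' ^ (n + k) • z.sec = L.presheaf.map _ (r ^ k • t)
      rw [Scheme.Modules.map_smul, map_pow, pow_add, mul_comm, mul_smul]
      exact congrArg _ ht.symm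
  · intro p q hpq
    have h1 : X.presheaf.map (homOfLE (X.basicOpen_le r)).op p.fn =
        X.presheaf.map (homOfLE (X.basicOpen_le r)).op q.fn := congrArg Sec.fn hpq
    have h2 : L.presheaf.map (homOfLE (X.basicOpen_le r)).op (p.sec - q.sec) = 0 := by
      rw [map_sub]
      exact sub_eq_zero.2 (congrArg Sec.sec hpq)
    obtain ⟨⟨_, k, rfl⟩, hk⟩ := IsLocalization.exists_of_eq (M := Submonoid.powers r) h1
    obtain ⟨n, hn⟩ := (Groth.Agent.QCoh.isLocalizingAt L hU r).eq_zero _ h2
    refine ⟨⟨strHom m U r ^ (n + k), n + k, rfl⟩, ?_⟩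
    change strHom m U r ^ (n + k) * p = strHom m U r ^ (n + k) * q
    rw [hpow]
    refine Sec.ext ?_ ?_
    · change r ^ (n + k) * p.fn + mu m U 0 p.sec = r ^ (n + k) * q.fn + mu m U 0 q.sec
      rw [mu_zero_left, mu_zero_left, pow_add, mul_assoc, mul_assoc]
      exact congrArg (r ^ n * · + 0) hk
    · change r ^ (n + k) • p.sec + p.fn • (0 : Γ(L, U)) = r ^ (n + k) • q.sec + q.fn • (0 : Γ(L, U))
      rw [smul_zero, smul_zero, add_zero, add_zero, ← sub_eq_zero, ← smul_sub, pow_add, mul_comm, mul_smul,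
        hn, smul_zero]

/-- The algebra `O ⊕ L`. -/
def alg : RelSpec.QCAlg X where
  presheaf := presheaf m
  isSheaf := isSheaf_presheaf m
  str := str m
  isQC := isQC m

/-- The inclusion of `L`. -/
def incl : L ⟶ (alg m).toModule :=
  ⟨letI := (alg m).moduleSect
   PresheafOfModules.homMk
    { app := fun U => AddCommGrpCat.ofHom (AddMonoidHom.mk'
        (show Γ(L, U.unop) → Sec m U.unop from fun l => ⟨0, l⟩) fun a b => Sec.ext (add_zero _).symm rfl)
      naturality := fun U V i => by
        ext l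
        exact Sec.ext (map_zero (X.presheaf.map i).hom).symm rfl }
    (fun U (r : Γ(X, U.unop)) (l : Γ(L, U.unop)) => by
      change (⟨0, r • l⟩ : Sec m U.unop) = strHom m U.unop r * ⟨0, l⟩
      refine Sec.ext ?_ ?_
      · change (0 : Γ(X, U.unop)) = r * 0 + mu m U.unop 0 l
        rw [mu_zero_left, mul_zero, add_zero]
      · change r • l = r • l + (0 : Γ(X, U.unop)) • (0 : Γ(L, U.unop))
        rw [smul_zero, add_zero])⟩

theorem isDblAlg : FinCov.IsDblAlg L m (alg m) (incl m) := by
  refine ⟨fun U => ?_, fun U l l' => ?_⟩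
  · have : (fun p : Γ(X, U) × L.val.obj (op U) => ((alg m).str.app (op U)).hom p.1 +
        FinCov.toSec (alg m) (((incl m).val.app (op U)).hom p.2)) =
        fun p : Γ(X, U) × L.val.obj (op U) => (⟨p.1, p.2⟩ : Sec m U) := by
      funext p
      exact Sec.ext (add_zero _) (zero_add _)
    rw [this]
    exact ⟨fun a b h => Prod.ext (congrArg Sec.fn h) (congrArg Sec.sec h), fun s => ⟨⟨s.fn, s.sec⟩, rfl⟩⟩
  · change (⟨0, l⟩ : Sec m U) * ⟨0, l'⟩ = strHom m U (mu m U l l')
    refine Sec.ext ?_ ?_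
    · change (0 : Γ(X, U)) * 0 + mu m U l l' = mu m U l l'
      rw [mul_zero, zero_add]
    · change (0 : Γ(X, U)) • (show Γ(L, U) from l') + (0 : Γ(X, U)) • (show Γ(L, U) from l) = 0
      rw [zero_smul, zero_smul, add_zero]

end Groth.Agent.FinCov71.DblConstr
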