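import Mathlib
import Groth.Prelude.Def_SecTwist

/-!
Morphisms out of a tensor product of modules from bilinear maps on sections.
-/

set_option autoImplicit false
set_option backward.isDefEq.respectTransparency false
set_option backward.isDefEq.respectTransparency.types false

universe u

open CategoryTheory CategoryTheory.Limits AlgebraicGeometry Opposite TopologicalSpace
open scoped TensorProduct

noncomputable section

namespace Groth.Agent.FinCov71

variable {X : Scheme.{u}} {L M N : X.Modules}

/-- The morphism of presheaves given by compatible bilinear maps. -/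
def preHom (β : ∀ U : X.Opens, Γ(L, U) →ₗ[Γ(X, U)] Γ(M, U) →ₗ[Γ(X, U)] Γ(N, U))
    (nat : ∀ {U V : X.Opens} (h : V ≤ U) (l : Γ(L, U)) (m : Γ(M, U)),
      N.presheaf.map (homOfLE h).op (β U l m) =
        β V (L.presheaf.map (homOfLE h).op l) (M.presheaf.map (homOfLE h).op m)) :
    (show X.PresheafOfModules from CohB1.tensorPre L M) ⟶
      (PresheafOfModules.restrictScalars (𝟙 X.ringCatSheaf.obj)).obj N.val where
  app U := ModuleCat.ofHom
    { toFun := fun z => TensorProduct.lift (β U.unop) (show Γ(L, U.unop) ⊗[Γ(X, U.unop)] Γ(M, U.unop) from z)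
      map_add' := fun a b => map_add (TensorProduct.lift (β U.unop))
        (show Γ(L, U.unop) ⊗[Γ(X, U.unop)] Γ(M, U.unop) from a)
        (show Γ(L, U.unop) ⊗[Γ(X, U.unop)] Γ(M, U.unop) from b)
      map_smul' := fun r a => map_smul (TensorProduct.lift (β U.unop)) (show Γ(X, U.unop) from r)
        (show Γ(L, U.unop) ⊗[Γ(X, U.unop)] Γ(M, U.unop) from a) }
  naturality {U V} i := by
    refine ModuleCat.hom_ext (LinearMap.ext fun z => ?_)
    induction z using TensorProduct.induction_on with
    | zero => exact (map_zero _).trans (map_zero _).symm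
    | tmul l m =>
      refine Eq.trans ?_ (nat (U := U.unop) (V := V.unop) i.unop.le l m).symm
      rfl
    | add a b ha hb =>
      exact (map_add _ a b).trans ((congrArg₂ (· + ·) ha hb).trans (map_add _ a b).symm)

/-- The morphism out of the tensor product. -/
def desc (β : ∀ U : X.Opens, Γ(L, U) →ₗ[Γ(X, U)] Γ(M, U) →ₗ[Γ(X, U)] Γ(N, U))
    (nat : ∀ {U V : X.Opens} (h : V ≤ U) (l : Γ(L, U)) (m : Γ(M, U)),
      N.presheaf.map (homOfLE h).op (β U l m) =
        β V (L.presheaf.map (homOfLE h).op l) (M.presheaf.map (homOfLE h).op m)) :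
    CohB1.tensorMod L M ⟶ N :=
  ((PresheafOfModules.sheafificationAdjunction (𝟙 X.ringCatSheaf.obj)).homEquiv _ _).symm (preHom β nat)

theorem desc_tmul (β : ∀ U : X.Opens, Γ(L, U) →ₗ[Γ(X, U)] Γ(M, U) →ₗ[Γ(X, U)] Γ(N, U))
    (nat : ∀ {U V : X.Opens} (h : V ≤ U) (l : Γ(L, U)) (m : Γ(M, U)),
      N.presheaf.map (homOfLE h).op (β U l m) =
        β V (L.presheaf.map (homOfLE h).op l) (M.presheaf.map (homOfLE h).op m))
    (U : X.Opens) (l : Γ(L, U)) (m : Γ(M, U)) :
    ((desc β nat).val.app (op U)).hom (SecTwist.tmul L M U l m) = β U l m := by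
  let adj := PresheafOfModules.sheafificationAdjunction (𝟙 X.ringCatSheaf.obj)
  have h := adj.homEquiv_unit (f := desc β nat)
  have h2 := ((adj.homEquiv _ _).apply_symm_apply (preHom β nat)).symm.trans h
  exact (congrArg (fun φ => (φ.app (op U)).hom (l ⊗ₜ[Γ(X, U)] m)) h2).symm

end Groth.Agent.FinCov71
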