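import Mathlib
import Groth.Agent.FinCov71.Trace
import Groth.Agent.FinCov71.TensorDesc

/-!
A rank two algebra with `2` invertible is `O ⊕ ker tr`.
-/

set_option autoImplicit false
set_option backward.isDefEq.respectTransparency false
set_option backward.isDefEq.respectTransparency.types false

universe u

open CategoryTheory CategoryTheory.Limits AlgebraicGeometry Opposite TopologicalSpace Groth.Agent.LFFrame

noncomputable section

namespace Groth.Agent.FinCov71

theorem sq_scalar {R S : Type*} [CommRing R] [CommRing S] [Algebra R S] (b : Module.Basis (Fin 2) R S)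
    (x : S) (hx : Algebra.trace R S x = 0) : ∃ c : R, x * x = algebraMap R S c := by
  refine ⟨-(Algebra.leftMulMatrix b x).det, Algebra.leftMulMatrix_injective b ?_⟩
  rw [Algebra.trace_eq_matrix_trace b, Matrix.trace_fin_two] at hx
  have h11 : Algebra.leftMulMatrix b x 1 1 = -Algebra.leftMulMatrix b x 0 0 := by linear_combination hx
  rw [map_mul, AlgHom.commutes]
  ext i j
  fin_cases i <;> fin_cases j <;>
    simp [Matrix.mul_apply, Fin.sum_univ_two, Matrix.det_fin_two, Matrix.algebraMap_matrix_apply, h11] <;> ring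

theorem mul_scalar {R S : Type*} [CommRing R] [CommRing S] [Algebra R S] (b : Module.Basis (Fin 2) R S)
    (h2 : IsUnit (2 : R)) (x y : S) (hx : Algebra.trace R S x = 0) (hy : Algebra.trace R S y = 0) :
    ∃ c : R, x * y = algebraMap R S c := by
  obtain ⟨u, hu⟩ := h2
  obtain ⟨a, ha⟩ := sq_scalar b x hx
  obtain ⟨a', ha'⟩ := sq_scalar b y hy
  obtain ⟨s, hs⟩ := sq_scalar b (x + y) (by rw [map_add, hx, hy, add_zero])
  refine ⟨↑u⁻¹ * (s - a - a'), ?_⟩
  have hh : algebraMap R S (↑u⁻¹) * 2 = 1 := by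
    rw [← map_ofNat (algebraMap R S) 2, ← map_mul, ← hu, Units.inv_mul, map_one]
  rw [map_mul, map_sub, map_sub, ← hs, ← ha, ← ha']
  linear_combination -(x * y) * hh

variable {X : Scheme.{u}} {A : RelSpec.QCAlg X}

theorem exists_dbl_of_rank_two (hA : FlatMod.IsFinLocFreeOfRank 2 A.toModule)
    (τ : A.toModule ⟶ Coh.structureModule X) (hτ : FinCov.IsTrace A τ) (h2 : IsUnit (2 : Γ(X, ⊤))) :
    ∃ m : CohB1.tensorMod (kernel τ) (kernel τ) ⟶ Coh.structureModule X,
      FinCov.IsDblAlg (kernel τ) m A (kernel.ι τ) := by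
  let half : ∀ U : X.Opens, Γ(X, U) := fun U => resO (le_top : U ≤ ⊤) ↑(h2.unit⁻¹)
  have hhalf : ∀ U : X.Opens, half U * 2 = 1 := fun U => by
    rw [show (2 : Γ(X, U)) = resO (le_top : U ≤ ⊤) 2 from (map_ofNat _ 2).symm, ← map_mul,
      h2.val_inv_mul, map_one]
  let k : ∀ {U : X.Opens}, Γ(kernel τ, U) → Sec A U := fun {U} l => ofMod A ((kernel.ι τ).app U l)
  have kres : ∀ {U V : X.Opens} (h : V ≤ U) (l : Γ(kernel τ, U)),
      res A h (k l) = k ((kernel τ).presheaf.map (homOfLE h).op l) := fun h l =>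
    (NatTrans.naturality_apply (kernel.ι τ).mapPresheaf (homOfLE h).op l).symm
  have kadd : ∀ {U : X.Opens} (a b : Γ(kernel τ, U)), k (a + b) = k a + k b := fun a b =>
    map_add ((kernel.ι τ).app _).hom a b
  have ksmul : ∀ {U : X.Opens} (r : Γ(X, U)) (a : Γ(kernel τ, U)), k (r • a) = r • k a := fun r a =>
    Scheme.Modules.Hom.app_smul (kernel.ι τ) r a
  have ktau : ∀ {U : X.Opens} (a : Γ(kernel τ, U)), lin τ U (k a) = 0 := fun a =>
    ((kernel_sections τ _).2 _).2 ⟨a, rfl⟩
  let β : ∀ U : X.Opens, Γ(kernel τ, U) →ₗ[Γ(X, U)] Γ(kernel τ, U) →ₗ[Γ(X, U)]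
      Γ(Coh.structureModule X, U) := fun U =>
    LinearMap.mk₂ Γ(X, U) (fun l l' => (half U * lin τ U (k l * k l') : Γ(X, U)))
      (fun a b c => by simp only [kadd, add_mul, map_add, mul_add])
      (fun r a c => by
        simp only [ksmul, Algebra.smul_mul_assoc, map_smul, smul_eq_mul, mul_left_comm (half U) r])
      (fun a b c => by simp only [kadd, mul_add, map_add])
      (fun r a c => by
        simp only [ksmul, Algebra.mul_smul_comm, map_smul, smul_eq_mul, mul_left_comm (half U) r])
  have nat : ∀ {U V : X.Opens} (h : V ≤ U) (l l' : Γ(kernel τ, U)),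
      (Coh.structureModule X).presheaf.map (homOfLE h).op (β U l l') =
        β V ((kernel τ).presheaf.map (homOfLE h).op l) ((kernel τ).presheaf.map (homOfLE h).op l') :=
    fun {U V} h l l' => by
      change resO h (half U * lin τ U (k l * k l')) = half V * lin τ V (k _ * k _)
      rw [map_mul, res_lin, map_mul, kres, kres, res_resO]
  refine ⟨desc β nat, fun U => ⟨?_, fun a => ?_⟩, fun U l l' => ?_⟩
  · rintro ⟨s, l⟩ ⟨s', l'⟩ h
    change algebraMap Γ(X, U) (Sec A U) s + k l = algebraMap Γ(X, U) (Sec A U) s' + k l' at h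
    have hs : s = s' := by
      have h0 := congrArg (lin τ U) h
      rw [map_add, map_add, lin_algebraMap τ hA hτ, lin_algebraMap τ hA hτ, ktau, ktau, add_zero, add_zero,
        nsmul_eq_mul, nsmul_eq_mul] at h0
      exact (isUnit_natCast (d := 2) (by exact_mod_cast h2) U).mul_left_cancel h0
    subst hs
    exact Prod.ext rfl ((kernel_sections τ U).1 (add_left_cancel h))
  · let a' : Sec A U := a
    let s := half U * lin τ U a'
    have h0 : lin τ U (a' - algebraMap Γ(X, U) (Sec A U) s) = 0 := by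
      rw [map_sub, lin_algebraMap τ hA hτ, nsmul_eq_mul, ← mul_assoc, mul_comm ((2 : ℕ) : Γ(X, U))]
      push_cast
      rw [hhalf, one_mul, sub_self]
    obtain ⟨l, hl⟩ := ((kernel_sections τ U).2 _).1 h0
    refine ⟨⟨s, l⟩, ?_⟩
    change algebraMap Γ(X, U) (Sec A U) s + k l = a'
    rw [show k l = a' - algebraMap Γ(X, U) (Sec A U) s from hl, add_sub_cancel]
  · change k l * k l' = algebraMap Γ(X, U) (Sec A U) (((desc β nat).val.app (op U)).hom _)
    rw [desc_tmul β nat U l l']
    change k l * k l' = algebraMap Γ(X, U) (Sec A U) (half U * lin τ U (k l * k l'))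
    refine eq_of_locally A.toModule (U := U) (toMod A _) (toMod A _) fun x hx => ?_
    obtain ⟨U', e, V, hxV, hVU, hVU', hV, he⟩ := exists_affine_frame hA hx
    refine ⟨V, hVU, hxV, ?_⟩
    change res A hVU (k l * k l') = res A hVU (algebraMap Γ(X, U) (Sec A U) (half U * lin τ U (k l * k l')))
    have htr : ∀ a : Sec A V, lin τ V a = tr A V a := fun a =>
      apply_eq_tr hτ hV ⟨U', 2, e, hVU', he⟩ _
    obtain ⟨c, hc⟩ := mul_scalar (frameBasis he hVU')
      (by exact_mod_cast isUnit_natCast (d := 2) (by exact_mod_cast h2) V)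
      (k ((kernel τ).presheaf.map (homOfLE hVU).op l)) (k ((kernel τ).presheaf.map (homOfLE hVU).op l'))
      ((htr _).symm.trans (ktau _)) ((htr _).symm.trans (ktau _))
    rw [res_algebraMap, map_mul (resO hVU), res_lin, map_mul (res A hVU), kres, kres, hc,
      lin_algebraMap τ hA hτ, res_resO, nsmul_eq_mul, ← mul_assoc,
      show half V * ((2 : ℕ) : Γ(X, V)) = 1 by exact_mod_cast hhalf V, one_mul]

end Groth.Agent.FinCov71
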